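import Cfsg.Agent.H781.Model
import Cfsg.Agent.H785.FusTools
set_option linter.all false

/-!
# Realizability: universes, inner systems, comparison of two systems over the same group (helper781)
-/

set_option autoImplicit false
set_option linter.unusedSectionVars false
set_option linter.unusedVariables false

universe u v

namespace Cfsg.Agent.H781

open Cfsg Cfsg.FusionSystem Cfsg.Agent.H802 Cfsg.Agent.H785

/-- The universe of the realizing group does not matter. -/
theorem isRealizable_of_isRealizedBy {Ω : Type u} [Group Ω] {S : Subgroup Ω} {F : FusionSystem S}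
    {G : Type v} [Group G] [Finite G] {ι : S →* G} (h : F.IsRealizedBy ι) {p : ℕ} (T : Sylow p G)
    (hT : (T : Subgroup G) = ι.range) : F.IsRealizable p := by
  have hsmall : Small.{u} G := inferInstance
  let e : Shrink.{u} G ≃* G := Shrink.mulEquiv
  have hfin : Finite (Shrink.{u} G) := Finite.of_equiv _ e.symm.toEquiv
  refine ⟨Shrink.{u} G, inferInstance, hfin, e.symm.toMonoidHom.comp ι, ⟨?_, ?_⟩, ?_⟩
  · exact e.symm.injective.comp h.1
  · intro P hP φ hφ
    rw [h.2 P hP φ hφ]
    constructor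
    · rintro ⟨g, hg⟩
      refine ⟨e.symm g, fun x => ?_⟩
      show e.symm (ι _) = e.symm g * e.symm (ι _) * (e.symm g)⁻¹
      rw [hg x, map_mul, map_mul, map_inv]
    · rintro ⟨g, hg⟩
      refine ⟨e g, fun x => ?_⟩
      have h1 : e.symm (ι _) = g * e.symm (ι _) * g⁻¹ := hg x
      have h2 := congrArg e h1
      rw [map_mul, map_mul, map_inv, MulEquiv.apply_symm_apply, MulEquiv.apply_symm_apply] at h2
      exact h2
  · have hinj : Function.Injective (e.toMonoidHom : Shrink.{u} G →* G) := e.injective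
    have hrange : (T : Subgroup G) ≤ (e.toMonoidHom : Shrink.{u} G →* G).range := by
      intro x _
      exact ⟨e.symm x, e.apply_symm_apply x⟩
    refine ⟨T.comapOfInjective e.toMonoidHom hinj hrange, ?_⟩
    have hcoe : ((T.comapOfInjective e.toMonoidHom hinj hrange : Sylow p (Shrink.{u} G)) :
        Subgroup (Shrink.{u} G)) = (T : Subgroup G).comap e.toMonoidHom :=
      Sylow.coe_comapOfInjective T e.toMonoidHom hinj hrange
    rw [hcoe, hT]
    ext x
    constructor
    · rintro ⟨s, hs⟩
      refine ⟨s, ?_⟩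
      have hs' : ι s = e x := hs
      show e.symm (ι s) = x
      rw [hs']
      exact e.symm_apply_apply x
    · rintro ⟨s, rfl⟩
      refine ⟨s, ?_⟩
      exact (e.apply_symm_apply _).symm

theorem ext_of_le {Ω : Type*} [Group Ω] {S : Subgroup Ω} {F E : FusionSystem S}
    (h1 : ∀ P, F.Hom P ⊆ E.Hom P) (h2 : ∀ P, E.Hom P ⊆ F.Hom P) : F = E :=
  fusionSystem_ext fun P => Set.Subset.antisymm (h1 P) (h2 P)

variable {Ω : Type u} [Group Ω] {S : Subgroup Ω} {p : ℕ} [hp : Fact p.Prime] [Finite S]

/-- The inner system is realizable. -/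
theorem isRealizable_inner (hS : IsPGroup p S) : (innerFusionSystem S).IsRealizable p := by
  refine ⟨S, inferInstance, inferInstance, MonoidHom.id S, ⟨Function.injective_id, ?_⟩, ?_⟩
  · intro P hP φ hφ
    have h1 : φ ∈ (innerFusionSystem S).Hom P ↔
        P ≤ S ∧ (∀ x : P, φ x ∈ S) ∧ ∃ g ∈ S, ∀ x : P, φ x = g * (x : Ω) * g⁻¹ := by
      rw [innerFusionSystem_eq]
      exact fs_mem_iff
    rw [h1]
    constructor
    · rintro ⟨-, -, g, hg, hge⟩
      exact ⟨⟨g, hg⟩, fun x => Subtype.ext (hge x)⟩
    · rintro ⟨g, hg⟩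
      exact ⟨hP, hφ, g, g.2, fun x => congrArg Subtype.val (hg x)⟩
  · have h1 : IsPGroup p (⊤ : Subgroup S) := hS.to_subgroup ⊤
    obtain ⟨T, hT⟩ := h1.exists_le_sylow
    exact ⟨T, by rw [top_le_iff.1 hT]; exact (MonoidHom.range_eq_top.2 fun x => ⟨x, rfl⟩).symm⟩

/-- `F` is inner when `Aut_F(S)` is a `p`-group and nothing is essential. -/
theorem eq_inner_of_no_essential (hS : IsPGroup p S) {F : FusionSystem S} (hF : F.IsSaturated p)
    (hA : IsPGroup p (F.autGroup S)) (hno : ∀ E, ¬ F.IsEssential p E) :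
    F = innerFusionSystem S := by
  refine ext_of_le (fun P => le_of_essential hS hF _ ?_ ?_ P) ?_
  · intro α hα
    obtain ⟨k, hk⟩ := hA ⟨α, hα⟩
    have h1 : α ∈ Inn S := mem_inn_of_pow hS hF hα (k := k) (congrArg Subtype.val hk)
    have h2 : α ∈ autInducedBy S S := by rw [autInducedBy_self]; exact h1
    exact autInducedBy_le_autGroup _ le_rfl h2
  · intro Q hQ
    exact absurd hQ (hno Q)
  · intro P φ hφ
    have h1 : φ ∈ (innerFusionSystem S).Hom P ↔
        P ≤ S ∧ (∀ x : P, φ x ∈ S) ∧ ∃ g ∈ S, ∀ x : P, φ x = g * (x : Ω) * g⁻¹ := by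
      rw [innerFusionSystem_eq]
      exact fs_mem_iff
    obtain ⟨hP, -, g, hg, hge⟩ := h1.1 hφ
    exact mem_of_apply_eq (F.conj_mem hP hg) hge

/-- The automizers in an inner system are `p`-groups. -/
theorem isPGroup_autGroup_inner (hS : IsPGroup p S) {Q : Subgroup Ω} (hQ : Q ≤ S) :
    IsPGroup p ((innerFusionSystem S).autGroup Q) := by
  rw [innerFusionSystem_eq, fs_autGroup le_rfl hQ]
  exact isPGroup_autInducedBy hS Q

/-- Comparison of two saturated systems over the same group. -/
theorem eq_of_essential (hS : IsPGroup p S) {F F' : FusionSystem S} (hF : F.IsSaturated p)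
    (hF' : F'.IsSaturated p) (htop : F.autGroup S = F'.autGroup S)
    (h1 : ∀ E, F.IsEssential p E → F.autGroup E ≤ F'.autGroup E)
    (h2 : ∀ E, F'.IsEssential p E → F'.autGroup E ≤ F.autGroup E) : F = F' :=
  ext_of_le
    (fun P => le_of_essential hS hF F' htop.le (fun Q hQ _ => h1 Q hQ) P)
    (fun P => le_of_essential hS hF' F htop.ge (fun Q hQ _ => h2 Q hQ) P)

/-- If `Aut_F(S)` and `Aut_{F'}(S)` are `p`-groups, they are equal. -/
theorem autGroup_top_eq (hS : IsPGroup p S) {F : FusionSystem S} (hF : F.IsSaturated p)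
    (hA : IsPGroup p (F.autGroup S)) : F.autGroup S = Inn S := by
  refine le_antisymm (fun α hα => ?_) (inn_le_autGroup F le_rfl)
  obtain ⟨k, hk⟩ := hA ⟨α, hα⟩
  exact mem_inn_of_pow hS hF hα (k := k) (congrArg Subtype.val hk)

/-- A system realized by `G`: the comparison data. -/
theorem exists_realized {G : Type v} [Group G] [Finite G] (T : Sylow p G)
    (e : S ≃* (T : Subgroup G)) :
    ∃ (F : FusionSystem S) (ι : S →* G), F.IsRealizedBy ι ∧ (T : Subgroup G) = ι.range ∧
      F.IsSaturated p ∧ F.IsRealizable p := by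
  let ι : S →* G := (T : Subgroup G).subtype.comp e.toMonoidHom
  have hι : Function.Injective ι := (Subtype.val_injective).comp e.injective
  have hr : (T : Subgroup G) = ι.range := by
    ext x
    constructor
    · intro hx
      refine ⟨e.symm ⟨x, hx⟩, ?_⟩
      show ((e (e.symm ⟨x, hx⟩) : T) : G) = x
      rw [e.apply_symm_apply]
    · rintro ⟨s, rfl⟩
      exact (e s).2
  have h := pullback_isRealizedBy ι hι
  exact ⟨pullback ι hι, ι, h, hr, isSaturated_of_isRealizedBy h T hr,
    isRealizable_of_isRealizedBy h T hr⟩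

end Cfsg.Agent.H781
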