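import Cfsg.Agent.H781.PStab
import Cfsg.Agent.H781.NormSys
set_option linter.all false

/-!
# `p`-stability of a fusion system: transport and cyclic subgroups (helper781)
-/

set_option autoImplicit false

namespace Cfsg.Agent.H781

open Cfsg Cfsg.FusionSystem Cfsg.Agent.H802

variable {Ω : Type*} [Group Ω] {S : Subgroup Ω} {p : ℕ}

/-- Transport of the `p`-core of a subgroup along an isomorphism. -/
theorem mem_map_pCore_equiv {A B : Type*} [Group A] [Group B] (e : A ≃* B) {X : Subgroup A}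
    {Y : Subgroup B} (h : ∀ a, a ∈ X ↔ e a ∈ Y) (a : A) :
    a ∈ ((pCore p X).map X.subtype : Subgroup A) ↔
      e a ∈ ((pCore p Y).map Y.subtype : Subgroup B) := by
  let e' : X ≃* Y :=
    { toFun := fun x => ⟨e x, (h x).1 x.2⟩
      invFun := fun y => ⟨e.symm y, (h _).2 (by simp)⟩
      left_inv := fun x => Subtype.ext (by simp)
      right_inv := fun y => Subtype.ext (by simp)
      map_mul' := fun x y => Subtype.ext (by simp) }
  constructor
  · rintro ⟨x, hx, rfl⟩
    exact ⟨e' x, (mem_pCore_equiv e').2 hx, rfl⟩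
  · rintro ⟨y, hy, hya⟩
    refine ⟨e'.symm y, ?_, ?_⟩
    · show e'.symm y ∈ pCore p X
      rw [← mem_pCore_equiv e', MulEquiv.apply_symm_apply]
      exact hy
    · show e.symm (y : B) = a
      have : (y : B) = e a := hya
      rw [this]
      simp

/-- Quadratic automorphisms are preserved by transport. -/
theorem quad_congr {A B : Type*} [Group A] [Group B] (e : A ≃* B) {χ : MulAut A}
    (h : ∀ a : A, (χ a⁻¹) * a * (χ a⁻¹) * (χ (χ a)) = 1) (b : B) :
    ((MulAut.congr e χ) b⁻¹) * b * ((MulAut.congr e χ) b⁻¹) *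
      ((MulAut.congr e χ) ((MulAut.congr e χ) b)) = 1 := by
  have h1 := congrArg e (h (e.symm b))
  simp only [map_mul, map_inv, map_one, MulEquiv.apply_symm_apply] at h1
  have h2 : ∀ x : B, (MulAut.congr e χ) x = e (χ (e.symm x)) := fun x => rfl
  simp only [h2, map_inv, MulEquiv.symm_apply_apply]
  exact h1

/-- The stability condition at `Q`. -/
def StableAt (p : ℕ) (F : FusionSystem S) (Q : Subgroup Ω) : Prop :=
  ∀ χ : MulAut Q, χ ∈ F.autGroup Q → (∀ a : Q, (χ a⁻¹) * a * (χ a⁻¹) * (χ (χ a)) = 1) →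
    χ ∈ ((pCore p (F.autGroup Q)).map (F.autGroup Q).subtype : Subgroup (MulAut Q))

theorem StableAt.of_isConj {F : FusionSystem S} {Q Q' : Subgroup Ω} (h : F.IsConj Q Q')
    (hQ' : StableAt p F Q') : StableAt p F Q := by
  obtain ⟨φ, hφ, hr⟩ := h
  intro χ hχ hquad
  rw [mem_map_pCore_equiv (p := p) (MulAut.congr (isoOf φ (F.injective_of_mem hφ) hr))
    (Y := F.autGroup Q') (fun a => (congr_mem_autGroup_iff hφ hr).symm)]
  exact hQ' _ (congr_mem_autGroup hφ hr hχ) (quad_congr _ hquad)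

/-- If the stability condition holds at all fully normalized subgroups, it holds everywhere. -/
theorem stableAt_of_fullyNormalized [Fact p.Prime] [Finite S] (hS : IsPGroup p S)
    {F : FusionSystem S} (hF : F.IsSaturated p)
    (h : ∀ Q : Subgroup Ω, F.IsFullyNormalized Q → StableAt p F Q) {Q : Subgroup Ω} (hQ : Q ≤ S) :
    StableAt p F Q := by
  obtain ⟨Q', hconj, hQ'⟩ := exists_isFullyNormalized hS hF hQ
  exact (h Q' hQ').of_isConj hconj

/-- Inheritance by subsystems at a given subgroup. -/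
theorem StableAt.mono {T : Subgroup Ω} {F : FusionSystem S} {E : FusionSystem T} {Q : Subgroup Ω}
    (hQ : Q ≤ T) (hQS : Q ≤ S) (hle : E.Hom Q ⊆ F.Hom Q) (h : StableAt p F Q) :
    StableAt p E Q := by
  have hA : E.autGroup Q ≤ F.autGroup Q := by
    intro α hα
    rw [mem_autGroup_iff E hQ] at hα
    rw [mem_autGroup_iff F hQS]
    exact hle hα
  intro χ hχ hquad
  exact mem_pCore_of_le hA hχ (h χ (hA hχ) hquad)

/-- A quadratic automorphism of a finite abelian `p`-group has `p`-power order. -/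
theorem pow_eq_one_of_quad [Fact p.Prime] {A : Type*} [CommGroup A] [Finite A]
    (hA : IsPGroup p A) {χ : MulAut A}
    (h : ∀ a : A, (χ a⁻¹) * a * (χ a⁻¹) * (χ (χ a)) = 1) : ∃ k, χ ^ p ^ k = 1 := by
  obtain ⟨k, hk⟩ := hA.exists_card_eq
  refine ⟨k, ?_⟩
  have hc : ∀ a : A, χ (a⁻¹ * χ a) = a⁻¹ * χ a := by
    intro a
    have h1 := h a
    rw [map_mul, map_inv] at *
    have h2 : χ (χ a) = χ a * (a⁻¹ * χ a) := by
      have h3 : (χ a)⁻¹ * a * (χ a)⁻¹ * χ (χ a) = 1 := h1
      have h4 : χ (χ a) = ((χ a)⁻¹ * a * (χ a)⁻¹)⁻¹ := (inv_eq_of_mul_eq_one_right h3).symm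
      rw [h4]
      group
    rw [h2]
    group
  have hpow : ∀ (n : ℕ) (a : A), (χ ^ n) a = a * (a⁻¹ * χ a) ^ n := by
    intro n
    induction n with
    | zero => intro a; simp
    | succ n ih =>
      intro a
      rw [pow_succ', MulAut.mul_apply, ih, map_mul, map_pow, hc, pow_succ']
      have : χ a = a * (a⁻¹ * χ a) := by group
      nth_rewrite 1 [this]
      rw [mul_assoc]
  apply MulEquiv.ext
  intro a
  rw [hpow, ← hk, pow_card_eq_one', mul_one]
  rfl

/-- The stability condition holds at cyclic subgroups. -/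
theorem stableAt_of_isCyclic [Fact p.Prime] {F : FusionSystem S} {Q : Subgroup Ω} [Finite Q]
    (hQp : IsPGroup p Q) (hc : IsCyclic Q) : StableAt p F Q := by
  intro χ hχ hquad
  letI : CommGroup Q := { (inferInstance : Group Q) with
    mul_comm := fun a b => by
      obtain ⟨g, hg⟩ := hc.exists_generator
      obtain ⟨m, rfl⟩ := hg a
      obtain ⟨n, rfl⟩ := hg b
      exact (Commute.refl g).zpow_zpow m n }
  have hcomm : ∀ α β : MulAut Q, α * β = β * α := by
    obtain ⟨g, hg⟩ := hc.exists_generator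
    intro α β
    apply MulEquiv.ext
    intro x
    obtain ⟨m, rfl⟩ := hg x
    obtain ⟨i, hi⟩ := hg (α g)
    obtain ⟨j, hj⟩ := hg (β g)
    have hi' : α g = g ^ i := hi.symm
    have hj' : β g = g ^ j := hj.symm
    show (α * β) (g ^ m) = (β * α) (g ^ m)
    have e1 : (α * β) g = (β * α) g := by
      rw [MulAut.mul_apply, MulAut.mul_apply, hi', hj', map_zpow, map_zpow, hi', hj', ← zpow_mul,
        ← zpow_mul, mul_comm i j]
    rw [map_zpow, map_zpow, e1]
  obtain ⟨k, hk⟩ := pow_eq_one_of_quad hQp (χ := χ) hquad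
  let χ' : F.autGroup Q := ⟨χ, hχ⟩
  have hn : (Subgroup.zpowers χ').Normal := by
    constructor
    rintro _ ⟨n, rfl⟩ β
    refine ⟨n, ?_⟩
    have h1 : β * χ' ^ n * β⁻¹ = χ' ^ n := by
      apply Subtype.ext
      show (β : MulAut Q) * ((χ' ^ n : F.autGroup Q) : MulAut Q) * (β : MulAut Q)⁻¹ = _
      rw [hcomm (β : MulAut Q)]
      group
    exact h1.symm
  have hp : IsPGroup p (Subgroup.zpowers χ') := by
    have h1 : χ' ^ p ^ k = 1 := Subtype.ext hk
    rintro ⟨_, n, rfl⟩
    refine ⟨k, Subtype.ext ?_⟩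
    show (χ' ^ n) ^ p ^ k = 1
    rw [← zpow_natCast, ← zpow_mul, mul_comm, zpow_mul, zpow_natCast, h1, one_zpow]
  exact ⟨χ', Lib.Cores.le_pCore hn hp (Subgroup.mem_zpowers χ'), rfl⟩

end Cfsg.Agent.H781
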